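import Cfsg.Agent.Lib.ReeCube.Witness
import Cfsg.Agent.Lib.D4Spectrum.Extension

/-!
Replacing a factor of a direct cube without changing the set of element orders.
-/

set_option autoImplicit false

namespace CfsgLib.ReeCube

theorem exists_order {X : Type*} [Group X] [Finite X] {n d : ℕ} {x : X} (hx : n ∣ orderOf x)
    (hd : d ∣ n) : ∃ y : X, orderOf y = d :=
  ⟨x ^ (orderOf x / d), orderOf_pow_orderOf_div (orderOf_pos x).ne' (hd.trans hx)⟩

/-- Element orders of a product of three groups. -/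
theorem orderOf_triple {A B C : Type*} [Group A] [Group B] [Group C] (a : A) (b : B) (c : C) :
    orderOf (a, b, c) = Nat.lcm (orderOf a) (Nat.lcm (orderOf b) (orderOf c)) := by
  rw [Prod.orderOf_mk, Prod.orderOf_mk]

/-- If `X` has the orders of `G` except two classes closed under least common multiples, then
`G × G × X` has the orders of `G × G × G`. -/
theorem range_cube {G X : Type*} [Group G] [Group X] (T : Set ℕ) (u v : ℕ)
    (hG : ∀ d, d ∈ Set.range (orderOf : G → ℕ) ↔ d ∈ T ∨ d ∣ u ∨ d ∣ v)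
    (hX : Set.range (orderOf : X → ℕ) = T) :
    Set.range (orderOf : G × G × X → ℕ) = Set.range (orderOf : G × G × G → ℕ) := by
  ext d
  constructor
  · rintro ⟨⟨a, b, x⟩, rfl⟩
    obtain ⟨c, hc⟩ := (hG (orderOf x)).2 (Or.inl (hX ▸ ⟨x, rfl⟩))
    exact ⟨(a, b, c), by rw [orderOf_triple, orderOf_triple, hc]⟩
  rintro ⟨⟨a, b, c⟩, rfl⟩
  have key : ∀ a b c : G, orderOf c ∈ T →
      ∃ y : G × G × X, orderOf y = Nat.lcm (orderOf a) (Nat.lcm (orderOf b) (orderOf c)) := by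
    intro a b c hc
    rw [← hX] at hc
    obtain ⟨x, hx⟩ := hc
    exact ⟨(a, b, x), by rw [orderOf_triple, hx]⟩
  have pair : ∀ w : ℕ, (∀ d, d ∣ w → ∃ g : G, orderOf g = d) → ∀ a b c : G, orderOf a ∣ w →
      orderOf b ∣ w →
      ∃ y : G × G × X, orderOf y = Nat.lcm (Nat.lcm (orderOf a) (orderOf b)) (orderOf c) := by
    intro w hw a b c ha hb
    obtain ⟨g, hg⟩ := hw _ (Nat.lcm_dvd ha hb)
    exact ⟨(g, c, 1), by rw [orderOf_triple, orderOf_one, Nat.lcm_one_right, hg]⟩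
  rw [Set.mem_range, orderOf_triple]
  by_cases hc : orderOf c ∈ T
  · exact key a b c hc
  by_cases hb : orderOf b ∈ T
  · obtain ⟨y, hy⟩ := key a c b hb
    exact ⟨y, by rw [hy, Nat.lcm_comm (orderOf c)]⟩
  by_cases ha : orderOf a ∈ T
  · obtain ⟨y, hy⟩ := key b c a ha
    exact ⟨y, by rw [hy, ← Nat.lcm_assoc, Nat.lcm_comm]⟩
  have hu : ∀ d, d ∣ u → ∃ g : G, orderOf g = d := fun d hd => (hG d).2 (Or.inr (Or.inl hd))
  have hv : ∀ d, d ∣ v → ∃ g : G, orderOf g = d := fun d hd => (hG d).2 (Or.inr (Or.inr hd))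
  have ha' := ((hG _).1 ⟨a, rfl⟩).resolve_left ha
  have hb' := ((hG _).1 ⟨b, rfl⟩).resolve_left hb
  have hc' := ((hG _).1 ⟨c, rfl⟩).resolve_left hc
  have hab : ∀ w : ℕ, (∀ d, d ∣ w → ∃ g : G, orderOf g = d) → orderOf a ∣ w → orderOf b ∣ w →
      ∃ y : G × G × X, orderOf y = Nat.lcm (orderOf a) (Nat.lcm (orderOf b) (orderOf c)) := by
    intro w hw ha hb
    obtain ⟨y, hy⟩ := pair w hw a b c ha hb
    exact ⟨y, by rw [hy, Nat.lcm_assoc]⟩
  have hac : ∀ w : ℕ, (∀ d, d ∣ w → ∃ g : G, orderOf g = d) → orderOf a ∣ w → orderOf c ∣ w →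
      ∃ y : G × G × X, orderOf y = Nat.lcm (orderOf a) (Nat.lcm (orderOf b) (orderOf c)) := by
    intro w hw ha hc
    obtain ⟨y, hy⟩ := pair w hw a c b ha hc
    exact ⟨y, by rw [hy, Nat.lcm_assoc, Nat.lcm_comm (orderOf c)]⟩
  have hbc : ∀ w : ℕ, (∀ d, d ∣ w → ∃ g : G, orderOf g = d) → orderOf b ∣ w → orderOf c ∣ w →
      ∃ y : G × G × X, orderOf y = Nat.lcm (orderOf a) (Nat.lcm (orderOf b) (orderOf c)) := by
    intro w hw hb hc
    obtain ⟨y, hy⟩ := pair w hw b c a hb hc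
    exact ⟨y, by rw [hy, Nat.lcm_comm]⟩
  rcases ha' with ha' | ha' <;> rcases hb' with hb' | hb'
  · exact hab u hu ha' hb'
  · rcases hc' with hc' | hc'
    · exact hac u hu ha' hc'
    · exact hbc v hv hb' hc'
  · rcases hc' with hc' | hc'
    · exact hbc u hu hb' hc'
    · exact hac v hv ha' hc'
  · exact hab v hv ha' hb'

variable {K : Type*} [Field K] [CharP K 3]

/-- The orders of the extension. -/
theorem range_ext [Fintype K] (hq : Fintype.card K % 4 = 3) {k : ℕ} (hk : 0 < k) [Finite (Ext K k)] :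
    Set.range (orderOf : Ext K k → ℕ) =
      {d | d ∣ 6 ∨ d ∣ 9 ∨ d ∣ Fintype.card K - 1 ∨ d ∣ (Fintype.card K + 1) / 2} := by
  ext d
  refine ⟨?_, ?_⟩
  · rintro ⟨x, rfl⟩; exact order_cases hq x
  · rintro (h | h | h | h)
    · obtain ⟨x, hx⟩ := exists_six (K := K) k; exact exists_order hx h
    · obtain ⟨x, hx⟩ := exists_nine (K := K) hk; exact exists_order hx h
    · obtain ⟨x, hx⟩ := exists_split hq k; exact exists_order hx h
    · obtain ⟨x, hx⟩ := exists_nonsplit (K := K) k; exact exists_order hx h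

end CfsgLib.ReeCube
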