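import Cfsg.Agent.Lib.ReeCube.Tensor

/-!
The orders of the elements of `V^k ⋊ (2 × PSL₂(q))` in characteristic three.
-/

set_option autoImplicit false
set_option linter.unusedSectionVars false

namespace CfsgLib.ReeCube

open Matrix
open scoped MatrixGroups

variable (K : Type*) [Field K] [CharP K 3]

/-- The linear group. -/
def acting : Subgroup (Module.End K (M2 K))ˣ := (rep (K := K)).toHomUnits.range

/-- The action on `k` copies. -/
def modAut (k : ℕ) : ↥(acting K) →* MulAut (Multiplicative (Fin k → M2 K)) where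
  toFun b :=
    { toFun := fun v => Multiplicative.ofAdd fun i =>
        ((b : (Module.End K (M2 K))ˣ) : Module.End K (M2 K)) (v.toAdd i)
      invFun := fun v => Multiplicative.ofAdd fun i =>
        (((b : (Module.End K (M2 K))ˣ)⁻¹ : (Module.End K (M2 K))ˣ) : Module.End K (M2 K)) (v.toAdd i)
      left_inv := fun v => by
        apply Multiplicative.toAdd.injective
        funext i
        simp [← Module.End.mul_apply]
      right_inv := fun v => by
        apply Multiplicative.toAdd.injective
        funext i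
        simp [← Module.End.mul_apply]
      map_mul' := fun v w => by
        apply Multiplicative.toAdd.injective
        funext i
        simp }
  map_one' := by
    ext v : 1
    apply Multiplicative.toAdd.injective
    funext i
    simp
  map_mul' b c := by
    ext v : 1
    apply Multiplicative.toAdd.injective
    funext i
    simp [Module.End.mul_apply]

/-- The extension. -/
abbrev Ext (k : ℕ) := Multiplicative (Fin k → M2 K) ⋊[modAut K k] ↥(acting K)

variable {K}

/-- The linear map of a member. -/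
def lin (b : ↥(acting K)) : Module.End K (M2 K) := ((b : (Module.End K (M2 K))ˣ) : Module.End K (M2 K))

theorem lin_mul (b c : ↥(acting K)) : lin (b * c) = lin b * lin c := rfl

theorem lin_pow (b : ↥(acting K)) : ∀ n : ℕ, lin (b ^ n) = lin b ^ n
  | 0 => rfl
  | n + 1 => by rw [pow_succ, pow_succ, lin_mul, lin_pow b n]

theorem lin_inj {b c : ↥(acting K)} (h : lin b = lin c) : b = c := Subtype.ext (Units.ext h)

theorem exists_lin (p : SL(2, K) × ℤˣ) : ∃ b : ↥(acting K), lin b = rep p :=
  ⟨⟨(rep (K := K)).toHomUnits p, p, rfl⟩, MonoidHom.coe_toHomUnits _ p⟩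

theorem lin_rep (b : ↥(acting K)) : ∃ p : SL(2, K) × ℤˣ, lin b = rep p := by
  obtain ⟨p, hp⟩ := b.2
  exact ⟨p, by rw [lin, ← hp, MonoidHom.coe_toHomUnits]⟩

theorem ext_pow {k : ℕ} (x : Ext K k) (n : ℕ) : (x ^ n).right = x.right ^ n ∧
    ∀ i, (x ^ n).left.toAdd i = (∑ j ∈ Finset.range n, lin x.right ^ j) (x.left.toAdd i) := by
  induction n with
  | zero => simp
  | succ n ih =>
    refine ⟨by rw [pow_succ, SemidirectProduct.mul_right, ih.1, pow_succ], fun i => ?_⟩
    rw [pow_succ, SemidirectProduct.mul_left, toAdd_mul, Pi.add_apply, ih.2 i, Finset.sum_range_succ,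
      LinearMap.add_apply, ih.1, ← lin_pow]
    rfl

theorem pow_eq_one {k : ℕ} (x : Ext K k) {n : ℕ} (hn : lin x.right ^ n = 1)
    (hs : ∑ j ∈ Finset.range n, lin x.right ^ j = 0) : x ^ n = 1 := by
  obtain ⟨e1, e2⟩ := ext_pow x n
  refine SemidirectProduct.ext ?_ ?_
  · apply Multiplicative.toAdd.injective
    funext i
    rw [e2, hs]
    rfl
  · rw [e1]
    exact lin_inj (by rw [lin_pow, hn]; rfl)

theorem sum_mul_range (x : Module.End K (M2 K)) (m n : ℕ) :
    ∑ j ∈ Finset.range (m * n), x ^ j =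
      (∑ j ∈ Finset.range m, x ^ j) * ∑ i ∈ Finset.range n, (x ^ m) ^ i := by
  induction n with
  | zero => simp
  | succ n ih =>
    rw [Nat.mul_succ, Finset.sum_range_add, ih, Finset.sum_range_succ (fun i => (x ^ m) ^ i), mul_add,
      ← pow_mul, Finset.sum_mul (Finset.range m) (fun j => x ^ j) (x ^ (m * n))]
    congr 1
    exact Finset.sum_congr rfl fun j _ => by rw [pow_add, (Commute.pow_pow_self x (m * n) j).eq]

theorem sum_three (x : Module.End K (M2 K)) (h : x = 1) : ∑ i ∈ Finset.range 3, x ^ i = 0 := by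
  refine LinearMap.ext fun M => ?_
  subst h
  simp only [one_pow, Finset.sum_const, Finset.card_range, LinearMap.smul_apply, Module.End.one_apply,
    LinearMap.zero_apply]
  rw [← Nat.cast_smul_eq_nsmul K, CharP.cast_eq_zero, zero_smul]

theorem sum_two (x : Module.End K (M2 K)) (h : x = -1) : ∑ i ∈ Finset.range 2, x ^ i = 0 := by
  subst h; simp [Finset.sum_range_succ]

theorem scalar_of_sq_one {h : SL(2, K)} (hh : h * h = 1) : h = 1 ∨ h = -1 := by
  have e : cmat h * cmat h = 1 := by rw [← cmat_mul, hh, cmat_one]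
  rw [sq_eq (cmat_det h), sub_eq_iff_eq_add] at e
  have h2 : (2 : K) ≠ 0 := by
    intro h
    exact one_ne_zero (by linear_combination (CharP.cast_eq_zero K 3) - h)
  have hτ : (cmat h).trace ≠ 0 := by
    intro h0
    rw [h0, zero_smul] at e
    have := congrFun (congrFun e 0) 0
    simp at this
    exact h2 (by linear_combination -this)
  have hc : cmat h = ((cmat h).trace⁻¹ * 2) • 1 := by
    calc cmat h = (cmat h).trace⁻¹ • ((cmat h).trace • cmat h) := (inv_smul_smul₀ hτ _).symm
      _ = _ := by rw [e, ← smul_smul, two_smul K]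
  have hd := cmat_det h
  rw [hc, det_smul, det_one, mul_one, Fintype.card_fin, pow_two, mul_self_eq_one_iff] at hd
  rcases hd with hd | hd
  · left; exact cmat_inj (by rw [hc, hd, one_smul, cmat_one])
  · right; exact cmat_inj (by rw [hc, hd, neg_one_smul, cmat_neg_one])

theorem rep_of_sq_one {h : SL(2, K)} (hh : h * h = 1) (e : ℤˣ) :
    rep (h, e) = (sgn e : K) • 1 := by
  rcases scalar_of_sq_one hh with rfl | rfl
  · exact rep_center e
  · rw [show ((-1 : SL(2, K)), e) = (-1, 1) * (1, e) by simp, map_mul, rep_neg_one, one_mul, rep_center]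

variable [Fintype K]

theorem two_dvd_pred (hq : Fintype.card K % 4 = 3) : 2 ∣ Fintype.card K - 1 ∧
    2 ∣ (Fintype.card K + 1) / 2 := by omega

/-- Orders in the extension. -/
theorem order_cases (hq : Fintype.card K % 4 = 3) {k : ℕ} (x : Ext K k) :
    orderOf x ∣ 6 ∨ orderOf x ∣ 9 ∨ orderOf x ∣ Fintype.card K - 1 ∨
      orderOf x ∣ (Fintype.card K + 1) / 2 := by
  obtain ⟨⟨g, e⟩, hp⟩ := lin_rep x.right
  set L := lin x.right with hL
  have hpow : ∀ n : ℕ, L ^ n = rep (g ^ n, e ^ n) := fun n => by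
    rw [hp, ← map_pow]; rfl
  by_cases hτ : (cmat g).trace ^ 2 = 1
  · -- a unipotent element up to sign
    have hg : cmat g ^ 3 = -((cmat g).trace ^ 3 • 1) := by
      have h1 : (cmat g + (cmat g).trace • 1) * (cmat g + (cmat g).trace • 1) = 0 := by
        simp only [add_mul, mul_add, smul_mul_assoc, mul_smul_comm, mul_one, one_mul, smul_smul, smul_add,
          sq_eq (cmat_det g)]
        rw [← pow_two, hτ, one_smul]
        have h3 : (3 : K) = 0 := CharP.cast_eq_zero K 3
        calc (cmat g).trace • cmat g - 1 + (cmat g).trace • cmat g + ((cmat g).trace • cmat g + 1)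
            = ((3 : K) * (cmat g).trace) • cmat g := by module
          _ = 0 := by rw [h3, zero_mul, zero_smul]
      have h2 : (cmat g + (cmat g).trace • 1) ^ 3 = 0 := by rw [pow_succ, pow_two, h1, zero_mul]
      rw [add_pow_char_of_commute 3 ((Commute.one_right (cmat g)).smul_right _), smul_pow, one_pow] at h2
      exact eq_neg_of_add_eq_zero_left h2
    have hsq : g ^ 3 * g ^ 3 = 1 := cmat_inj (by
      rw [cmat_mul, cmat_pow, hg, neg_mul_neg, smul_mul_smul_comm, one_mul, ← pow_add,
        show (cmat g).trace ^ (3 + 3) = 1 by rw [show 3 + 3 = 2 * 3 from rfl, pow_mul, hτ, one_pow],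
        one_smul, cmat_one])
    have h3 : L ^ 3 = (sgn e : K) • 1 := by
      rw [hpow, rep_of_sq_one hsq, show e ^ 3 = e by rw [pow_succ, Int.units_sq, one_mul]]
    rcases sgn_cases (K := K) e with hs | hs <;> rw [hs] at h3
    · rw [one_smul] at h3
      refine Or.inr (Or.inl (orderOf_dvd_of_pow_eq_one (pow_eq_one x ?_ ?_)))
      · rw [← hL, show (9 : ℕ) = 3 * 3 from rfl, pow_mul, h3, one_pow]
      · rw [← hL, show (9 : ℕ) = 3 * 3 from rfl, sum_mul_range, sum_three _ h3, mul_zero]
    · replace h3 : L ^ 3 = -1 := h3.trans (neg_one_smul K (1 : Module.End K (M2 K)))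
      refine Or.inl (orderOf_dvd_of_pow_eq_one (pow_eq_one x ?_ ?_))
      · rw [← hL, show (6 : ℕ) = 3 * 2 from rfl, pow_mul, h3]; exact neg_one_sq (R := Module.End K (M2 K))
      · rw [← hL, show (6 : ℕ) = 3 * 2 from rfl, sum_mul_range, sum_two _ h3, mul_zero]
  by_cases hfix : ∃ M : M2 K, M ≠ 0 ∧ L M = M
  · obtain ⟨M, hM, hM'⟩ := hfix
    rw [hp] at hM'
    have h2 : L ^ 2 = 1 := by
      rw [hp]; exact (sq_eq_one_of_fixed hq g e hM hM').resolve_left hτ
    refine Or.inl (orderOf_dvd_of_pow_eq_one (pow_eq_one x ?_ ?_))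
    · rw [← hL, show (6 : ℕ) = 2 * 3 from rfl, pow_mul, h2, one_pow]
    · rw [← hL, show (6 : ℕ) = 2 * 3 from rfl, sum_mul_range, sum_three _ h2, mul_zero]
  have hnorm : ∀ n : ℕ, L ^ n = 1 → x ^ n = 1 := by
    intro n hn
    refine pow_eq_one x hn (LinearMap.ext fun M => ?_)
    by_contra hne
    refine hfix ⟨_, hne, ?_⟩
    rw [← hL, ← Module.End.mul_apply]
    congr 1
    have h1 := geom_sum_mul L n
    rw [hn, sub_self, mul_sub, mul_one, sub_eq_zero] at h1
    rw [(Commute.sum_right _ _ _ fun j _ => Commute.self_pow L j : Commute L _).eq]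
    exact h1
  have he : ∀ n : ℕ, 2 ∣ n → e ^ n = 1 := by
    rintro n ⟨r, rfl⟩; rw [pow_mul, Int.units_sq, one_pow]
  obtain ⟨d1, d2⟩ := two_dvd_pred hq
  have h4 : (cmat g).trace ^ 2 ≠ 4 := fun h => hτ (by
    rw [h]; linear_combination (CharP.cast_eq_zero K 3))
  rcases pow_card_cases g h4 with hg | hg
  · refine Or.inr (Or.inr (Or.inl (orderOf_dvd_of_pow_eq_one (hnorm _ ?_))))
    rw [hpow, hg, he _ d1]; exact map_one rep
  · refine Or.inr (Or.inr (Or.inr (orderOf_dvd_of_pow_eq_one (hnorm _ ?_))))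
    rw [hpow, he _ d2, rep_of_sq_one (by
      rw [← pow_add, show (Fintype.card K + 1) / 2 + (Fintype.card K + 1) / 2 = Fintype.card K + 1 by omega, hg])]
    simp [sgn]

end CfsgLib.ReeCube
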