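import Mathlib
import Cfsg.Agent.Lib.SL2.Facts

/-!
The representation of `2 × PSL₂(q)` on `2 × 2` matrices by `M ↦ ± g M (g^φ)ᵀ`, `φ` the cube map, in
characteristic three: orders of its elements and their fixed vectors.
-/

set_option autoImplicit false
set_option linter.unusedSectionVars false

namespace CfsgLib.ReeCube

open Matrix
open scoped MatrixGroups

variable {K : Type*} [Field K] [CharP K 3]

/-- Two by two matrices. -/
abbrev M2 (K : Type*) := Matrix (Fin 2) (Fin 2) K

instance fact_three : Fact (Nat.Prime 3) := ⟨Nat.prime_three⟩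

/-- The cube map on matrices. -/
def frobM (g : M2 K) : M2 K := g.map (frobenius K 3)

theorem frobM_mul (g h : M2 K) : frobM (g * h) = frobM g * frobM h := Matrix.map_mul

theorem frobM_one : frobM (1 : M2 K) = 1 := Matrix.map_one _ (map_zero _) (map_one _)

/-- The sign of a unit of the integers. -/
def sgn (e : ℤˣ) : K := ((e : ℤ) : K)

theorem sgn_mul (a b : ℤˣ) : (sgn (a * b) : K) = sgn a * sgn b := by
  simp [sgn]

theorem sgn_sq (e : ℤˣ) : (sgn e : K) * sgn e = 1 := by
  rcases Int.units_eq_one_or e with rfl | rfl <;> simp [sgn]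

theorem sgn_cases (e : ℤˣ) : (sgn e : K) = 1 ∨ (sgn e : K) = -1 := by
  rcases Int.units_eq_one_or e with rfl | rfl <;> simp [sgn]

/-- The matrix of an element of `SL₂`. -/
def cmat (g : SL(2, K)) : M2 K := g

theorem cmat_mul (g h : SL(2, K)) : cmat (g * h) = cmat g * cmat h := rfl

theorem cmat_one : cmat (1 : SL(2, K)) = 1 := rfl

theorem cmat_neg_one : cmat (-1 : SL(2, K)) = -1 := rfl

theorem cmat_pow (g : SL(2, K)) : ∀ n : ℕ, cmat (g ^ n) = cmat g ^ n
  | 0 => rfl
  | n + 1 => by rw [pow_succ, pow_succ, cmat_mul, cmat_pow g n]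

theorem cmat_det (g : SL(2, K)) : (cmat g).det = 1 := g.2

theorem cmat_inj {g h : SL(2, K)} (e : cmat g = cmat h) : g = h := Subtype.ext e

theorem trace_cmat_inv (g : SL(2, K)) : (cmat g⁻¹).trace = (cmat g).trace := by
  show (adjugate (cmat g)).trace = _
  rw [adjugate_fin_two, trace_fin_two, trace_fin_two]
  simp [add_comm]

/-- The action of a pair. -/
def actEnd (g : M2 K) (e : ℤˣ) : Module.End K (M2 K) :=
  (sgn e : K) • (LinearMap.mulLeft K g).comp (LinearMap.mulRight K (frobM g)ᵀ)

theorem actEnd_apply (g : M2 K) (e : ℤˣ) (M : M2 K) :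
    actEnd g e M = (sgn e : K) • (g * (M * (frobM g)ᵀ)) := rfl

/-- The representation. -/
def rep : SL(2, K) × ℤˣ →* Module.End K (M2 K) where
  toFun p := actEnd (cmat p.1) p.2
  map_one' := by
    refine LinearMap.ext fun M => ?_
    rw [actEnd_apply]
    simp [sgn, frobM_one, cmat_one]
  map_mul' p q := by
    refine LinearMap.ext fun M => ?_
    rw [Module.End.mul_apply, actEnd_apply, actEnd_apply, actEnd_apply]
    simp only [Prod.fst_mul, Prod.snd_mul, cmat_mul, frobM_mul, transpose_mul,
      sgn_mul, mul_smul_comm, smul_mul_assoc, smul_smul, mul_assoc]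

theorem rep_apply (p : SL(2, K) × ℤˣ) (M : M2 K) :
    rep p M = (sgn p.2 : K) • ((cmat p.1) * (M * (frobM (cmat p.1))ᵀ)) := rfl

theorem rep_neg_one : rep ((-1 : SL(2, K)), (1 : ℤˣ)) = 1 := by
  refine LinearMap.ext fun M => ?_
  rw [rep_apply]
  have h : frobM (-1 : M2 K) = -1 := by
    ext i j; fin_cases i <;> fin_cases j <;> simp [frobM]
  rw [cmat_neg_one, h]
  simp [sgn]

theorem rep_center (e : ℤˣ) : rep ((1 : SL(2, K)), e) = (sgn e : K) • 1 := by
  refine LinearMap.ext fun M => ?_
  rw [rep_apply]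
  simp [frobM_one, cmat_one]

/-- The trace after inversion. -/
theorem trace_frob_inv (g : SL(2, K)) :
    ((frobM (cmat g⁻¹))ᵀ).trace = (cmat g).trace ^ 3 := by
  have h := trace_cmat_inv g
  rw [trace_transpose, frobM, ← h, trace_fin_two, trace_fin_two, Matrix.map_apply, Matrix.map_apply,
    ← map_add, frobenius_def]

/-- Cayley–Hamilton. -/
theorem sq_eq {g : M2 K} (hd : g.det = 1) : g * g = g.trace • g - 1 := by
  rw [det_fin_two] at hd
  ext i j
  fin_cases i <;> fin_cases j <;> simp [Matrix.mul_apply, Fin.sum_univ_two, trace_fin_two] <;>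
    first | ring1 | linear_combination -hd | linear_combination hd

variable [Fintype K] (hq : Fintype.card K % 4 = 3)
include hq

theorem no_sqrt_neg_one (a : K) : a * a ≠ -1 := fun h =>
  (FiniteField.isSquare_neg_one_iff.1 ⟨a, h.symm⟩) hq

/-- A fixed vector forces trace `±2` or an element of order two. -/
theorem sq_eq_one_of_fixed (g : SL(2, K)) (e : ℤˣ) {M : M2 K} (hM : M ≠ 0)
    (hfix : rep (g, e) M = M) :
    (cmat g).trace ^ 2 = 1 ∨ rep (g, e) ^ 2 = 1 := by
  rw [rep_apply] at hfix
  set ψ := (frobM (cmat g⁻¹))ᵀ with hψ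
  have hinv : (frobM (cmat g))ᵀ * ψ = 1 ∧ ψ * (frobM (cmat g))ᵀ = 1 := by
    rw [hψ, ← transpose_mul, ← transpose_mul, ← frobM_mul, ← frobM_mul,
      ← cmat_mul, ← cmat_mul, inv_mul_cancel, mul_inv_cancel]
    simp [frobM_one, cmat_one]
  have hψd : ψ.det = 1 := by
    rw [hψ, det_transpose, frobM]
    show ((frobenius K 3).mapMatrix (cmat g⁻¹)).det = 1
    rw [← RingHom.map_det, cmat_det, map_one]
  set G := cmat g
  set s : K := sgn e with hs
  have hss : s * s = 1 := sgn_sq e
  have hgM : G * M = s • (M * ψ) := by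
    conv_rhs => rw [← hfix]
    rw [smul_mul_assoc, smul_smul, hss, one_smul, mul_assoc, mul_assoc, hinv.1, mul_one]
  have h2 : G * G * M = M * (ψ * ψ) := by
    rw [mul_assoc, hgM, mul_smul_comm, ← mul_assoc, hgM, smul_mul_assoc, smul_smul, hss, one_smul,
      mul_assoc]
  rw [sq_eq (cmat_det g), sq_eq hψd, sub_mul, mul_sub, one_mul, mul_one, sub_left_inj, smul_mul_assoc, hgM,
    mul_smul_comm, smul_smul, trace_frob_inv] at h2
  have hne : M * ψ ≠ 0 := fun h => hM (by
    calc M = M * (ψ * (frobM G)ᵀ) := by rw [hinv.2, mul_one]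
      _ = 0 := by rw [← mul_assoc, h, zero_mul])
  have h3 : G.trace * s = G.trace ^ 3 := smul_left_injective K hne h2
  by_cases hτ : G.trace = 0
  · right
    have hGG : G * G = -1 := by rw [sq_eq (cmat_det g), hτ, zero_smul, zero_sub]
    have hg2 : (g, e) ^ 2 = ((-1 : SL(2, K)), (1 : ℤˣ)) := by
      refine Prod.ext (cmat_inj ?_) (Int.units_sq e)
      rw [Prod.pow_fst, pow_two, cmat_mul]
      exact hGG
    rw [← map_pow, hg2, rep_neg_one]
  · left
    have h4 : G.trace ^ 2 = s := by
      apply mul_left_cancel₀ hτ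
      rw [h3]; ring
    rcases sgn_cases (K := K) e with h | h
    · rw [h4, hs, h]
    · exact absurd (by rw [← pow_two, h4, hs, h]) (no_sqrt_neg_one hq G.trace)

omit hq in
/-- In a nonscalar torus the Frobenius power is the element or its inverse. -/
theorem pow_card_cases (g : SL(2, K)) (h4 : (cmat g).trace ^ 2 ≠ 4) :
    g ^ (Fintype.card K - 1) = 1 ∨ g ^ (Fintype.card K + 1) = 1 := by
  set q := Fintype.card K with hqdef
  set G := cmat g
  set τ := G.trace
  set Δ := τ ^ 2 - 4 with hΔ
  set h := (2 : K) • G - τ • 1 with hh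
  have hhh : h * h = Δ • 1 := by
    rw [hh, sub_mul, mul_sub, mul_sub]
    have hGG : G * G = τ • G - 1 := sq_eq (cmat_det g)
    simp only [smul_mul_assoc, mul_smul_comm, mul_one, one_mul, smul_smul, hGG, smul_sub, hΔ]
    module
  have hΔ0 : Δ ≠ 0 := sub_ne_zero.2 h4
  obtain ⟨r, hr⟩ : ∃ r, q = 2 * r + 1 := by
    have h : q % 2 = 1 := FiniteField.odd_card_of_char_ne_two (by rw [ringChar.eq K 3]; norm_num)
    exact ⟨q / 2, by omega⟩
  have hpow : h ^ q = Δ ^ r • h := by
    rw [hr, pow_succ, pow_mul, pow_two, hhh, smul_pow, one_pow, smul_mul_assoc, one_mul]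
  have hfrob : h ^ q = (2 : K) • G ^ q - τ • 1 := by
    obtain ⟨n, hn⟩ := FiniteField.card K 3
    have hn' : q = 3 ^ (n : ℕ) := hn.2
    rw [hh, hn', sub_pow_char_pow_of_commute 3 (n : ℕ) ((Commute.one_right ((2 : K) • G)).smul_right τ), smul_pow,
      smul_pow, one_pow, ← hn', hqdef, FiniteField.pow_card, FiniteField.pow_card]
  have hd : Δ ^ r = 1 ∨ Δ ^ r = -1 := by
    have e : (Δ ^ r) * (Δ ^ r) = 1 := by
      rw [← pow_add, ← two_mul, show 2 * r = q - 1 by omega]
      exact FiniteField.pow_card_sub_one_eq_one Δ hΔ0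
    exact mul_self_eq_one_iff.1 e
  have h2 : (2 : K) ≠ 0 := by
    intro h
    have : (3 : K) = 0 := CharP.cast_eq_zero K 3
    exact one_ne_zero (by linear_combination this - h)
  rw [hfrob] at hpow
  rcases hd with hd | hd
  · left
    have : G ^ q = G := by
      rw [hd, one_smul, hh, sub_left_inj] at hpow
      exact smul_right_injective _ h2 hpow
    have e : g ^ q = g := cmat_inj (by rw [cmat_pow]; exact this)
    rw [← mul_right_inj g, mul_one, ← pow_succ', show q - 1 + 1 = q by omega, e]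
  · right
    have : G ^ q * G = 1 := by
      have e : G ^ q = τ • 1 - G := by
        refine smul_right_injective _ h2 ?_
        show (2 : K) • G ^ q = (2 : K) • (τ • (1 : M2 K) - G)
        rw [hd, hh] at hpow
        rw [sub_eq_iff_eq_add.1 hpow]
        module
      rw [e, sub_mul, smul_mul_assoc, one_mul, sq_eq (cmat_det g), sub_sub_cancel]
    exact cmat_inj (by rw [cmat_pow, pow_succ, cmat_one]; exact this)

end CfsgLib.ReeCube
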