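import Cfsg.Agent.Lib.ReeCube.Orders

/-!
Elements of orders `9`, `6`, `q - 1` and `(q + 1) / 2` in `V^k ⋊ (2 × PSL₂(q))`.
-/

set_option autoImplicit false
set_option linter.unusedSectionVars false

namespace CfsgLib.ReeCube

open Matrix
open scoped MatrixGroups

variable {K : Type*} [Field K] [CharP K 3]

theorem three_eq_zero : (3 : K) = 0 := CharP.cast_eq_zero K 3

theorem two_ne : (2 : K) ≠ 0 := fun h =>
  one_ne_zero (by linear_combination (three_eq_zero (K := K)) - h)

/-- The kernel of the representation. -/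
theorem rep_eq_one {g : SL(2, K)} {e : ℤˣ} (h : rep (g, e) = 1) :
    e = 1 ∧ (g = 1 ∨ g = -1) := by
  have hM : ∀ M : M2 K, (sgn e : K) • (cmat g * (M * (frobM (cmat g))ᵀ)) = M := fun M => by
    rw [← rep_apply (g, e) M, h]; rfl
  set G := cmat g with hG
  set P := (frobM G)ᵀ
  have h1 : G * ((sgn e : K) • P) = 1 := by rw [mul_smul_comm]; simpa using hM 1
  have h1' : ((sgn e : K) • P) * G = 1 := mul_eq_one_comm.1 h1
  have hc : ∀ M : M2 K, G * M = M * G := fun M => by
    conv_rhs => rw [← hM M]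
    rw [← mul_smul_comm, ← mul_smul_comm, mul_assoc, mul_assoc, h1', mul_one]
  have e1 := congrFun (congrFun (hc !![0, 1; 0, 0]) 0) 0
  have e2 := congrFun (congrFun (hc !![0, 1; 0, 0]) 0) 1
  have e3 := congrFun (congrFun (hc !![0, 0; 1, 0]) 0) 0
  simp [Matrix.mul_apply, Fin.sum_univ_two] at e1 e2 e3
  have hd : G.det = 1 := cmat_det g
  rw [det_fin_two, e2] at hd
  have hgg : g * g = 1 := cmat_inj (by
    rw [cmat_mul, cmat_one, ← hG]
    ext i j
    fin_cases i <;> fin_cases j <;>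
      simp [Matrix.mul_apply, Fin.sum_univ_two, ← e1, e2, e3] at hd ⊢ <;>
      linear_combination hd)
  refine ⟨?_, scalar_of_sq_one hgg⟩
  rw [rep_of_sq_one hgg] at h
  have h' := congrFun (congrFun (LinearMap.congr_fun h 1) 0) 0
  simp at h'
  rcases Int.units_eq_one_or e with rfl | rfl
  · rfl
  · simp [sgn] at h'
    exact absurd (by linear_combination -h' : (2 : K) = 0) two_ne

/-- A member with its pair. -/
theorem exists_pow_lin (p : SL(2, K) × ℤˣ) : ∃ b : ↥(acting K), ∀ n : ℕ, lin b ^ n = rep (p.1 ^ n, p.2 ^ n) := by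
  obtain ⟨b, hb⟩ := exists_lin p
  exact ⟨b, fun n => by rw [hb, ← map_pow]; rfl⟩

theorem pow_of_inr {k : ℕ} {b : ↥(acting K)} {n : ℕ}
    (h : (SemidirectProduct.inr b : Ext K k) ^ n = 1) : lin b ^ n = 1 := by
  rw [← map_pow, ← map_one SemidirectProduct.inr, SemidirectProduct.inr_inj] at h
  rw [← lin_pow, h]; rfl

/-- The unipotent element. -/
def unip (a : K) : SL(2, K) := ⟨!![1, a; 0, 1], by simp [det_fin_two]⟩

theorem cmat_unip (a : K) : cmat (unip a) = !![1, a; 0, 1] := rfl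

theorem unip_mul (a b : K) : unip a * unip b = unip (a + b) := cmat_inj (by
  rw [cmat_mul, cmat_unip, cmat_unip, cmat_unip]
  ext i j; fin_cases i <;> fin_cases j <;> simp [Matrix.mul_apply, Fin.sum_univ_two, add_comm])

theorem unip_pow (a : K) : ∀ n : ℕ, unip a ^ n = unip (n * a)
  | 0 => cmat_inj (by ext i j; fin_cases i <;> fin_cases j <;> simp [cmat_unip, cmat_one])
  | n + 1 => by rw [pow_succ, unip_pow a n, unip_mul]; push_cast; ring_nf

theorem exists_nine {k : ℕ} (hk : 0 < k) : ∃ x : Ext K k, 9 ∣ orderOf x := by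
  obtain ⟨b, hb⟩ := exists_pow_lin (unip (1 : K), (1 : ℤˣ))
  let v : M2 K := !![0, 0; 0, 1]
  let x : Ext K k := ⟨Multiplicative.ofAdd fun _ => v, b⟩
  have h3 : lin b ^ 3 = 1 := by
    rw [hb, unip_pow, Nat.cast_ofNat, mul_one, three_eq_zero,
      show unip (0 : K) = 1 from cmat_inj (by
        ext i j; fin_cases i <;> fin_cases j <;> simp [cmat_unip, cmat_one]), one_pow]
    exact map_one rep
  refine ⟨x, dvd_of_eq (orderOf_eq_prime_pow (p := 3) (n := 1) ?_ ?_).symm⟩
  · intro h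
    obtain ⟨-, e2⟩ := ext_pow x (3 ^ 1)
    have := e2 ⟨0, hk⟩
    rw [h] at this
    have hj : ∀ j : ℕ, (lin b ^ j) v 0 0 = (j : K) * (j : K) ^ 3 := fun j => by
      rw [hb, unip_pow, one_pow, rep_apply, cmat_unip]
      simp [v, frobM, sgn, Matrix.vecMul, dotProduct, Fin.sum_univ_two, frobenius_def]
    have h00 : (∑ j ∈ Finset.range 3, lin b ^ j) v 0 0 = (0 : M2 K) 0 0 :=
      congrFun (congrFun this.symm 0) 0
    rw [LinearMap.sum_apply, Matrix.sum_apply] at h00
    simp only [hj, Finset.sum_range_succ, Finset.sum_range_zero, Nat.cast_zero, Nat.cast_one, Nat.cast_ofNat,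
      Matrix.zero_apply] at h00
    exact two_ne (K := K) (by linear_combination h00 - 5 * (three_eq_zero (K := K)))
  · refine pow_eq_one x ?_ ?_
    · show lin b ^ (3 * 3) = 1
      rw [pow_mul, h3, one_pow]
    · show ∑ j ∈ Finset.range (3 * 3), lin b ^ j = 0
      rw [sum_mul_range, sum_three _ h3, mul_zero]

theorem exists_six (k : ℕ) : ∃ x : Ext K k, 6 ∣ orderOf x := by
  obtain ⟨b, hb⟩ := exists_pow_lin (unip (1 : K), (-1 : ℤˣ))
  refine ⟨SemidirectProduct.inr b, ?_⟩
  have key : ∀ n : ℕ, (SemidirectProduct.inr b : Ext K k) ^ n = 1 → 2 ∣ n ∧ 3 ∣ n := by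
    intro n hn
    have h := pow_of_inr hn
    rw [hb] at h
    obtain ⟨he, hg⟩ := rep_eq_one h
    refine ⟨even_iff_two_dvd.1 ((neg_one_pow_eq_one_iff_even (R := ℤˣ) (by decide)).1 he),
      (CharP.cast_eq_zero_iff K 3 n).1 ?_⟩
    rw [unip_pow, mul_one] at hg
    rcases hg with hg | hg
    · simpa [cmat_unip, cmat_one] using congrFun (congrFun (congrArg cmat hg) 0) 1
    · simpa [cmat_unip, cmat_neg_one] using congrFun (congrFun (congrArg cmat hg) 0) 1
  obtain ⟨h2, h3⟩ := key _ (pow_orderOf_eq_one _)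
  omega

variable [Fintype K]

theorem exists_split (hq : Fintype.card K % 4 = 3) (k : ℕ) :
    ∃ x : Ext K k, Fintype.card K - 1 ∣ orderOf x := by
  classical
  obtain ⟨u, hu⟩ := IsCyclic.exists_generator (α := Kˣ)
  have hord : orderOf u = Fintype.card K - 1 := by
    rw [orderOf_eq_card_of_forall_mem_zpowers hu, Nat.card_eq_fintype_card, Fintype.card_units]
  let t : SL(2, K) := ⟨!![(u : K), 0; 0, (u⁻¹ : Kˣ)], by simp [det_fin_two]⟩
  have htp : ∀ n : ℕ, cmat (t ^ n) = !![((u ^ n : Kˣ) : K), 0; 0, (((u ^ n)⁻¹ : Kˣ) : K)] := by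
    intro n
    induction n with
    | zero => ext i j; fin_cases i <;> fin_cases j <;> simp [cmat_one]
    | succ n ih =>
      rw [pow_succ, cmat_mul, ih]
      ext i j; fin_cases i <;> fin_cases j <;>
        simp [t, cmat, Matrix.mul_apply, Fin.sum_univ_two, pow_succ, mul_comm]
  obtain ⟨b, hb⟩ := exists_pow_lin (t, (-1 : ℤˣ))
  refine ⟨SemidirectProduct.inr b, ?_⟩
  have hn := pow_of_inr (pow_orderOf_eq_one (SemidirectProduct.inr b : Ext K k))
  set n := orderOf (SemidirectProduct.inr b : Ext K k)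
  rw [hb] at hn
  obtain ⟨he, hg⟩ := rep_eq_one hn
  obtain ⟨r, hr⟩ := (neg_one_pow_eq_one_iff_even (R := ℤˣ) (by decide)).1 he
  rw [← hord]
  refine orderOf_dvd_of_pow_eq_one (Units.ext ?_)
  rcases hg with hg | hg
  · simpa [htp, cmat_one] using congrFun (congrFun (congrArg cmat hg) 0) 0
  · refine absurd ?_ (no_sqrt_neg_one hq ((u : K) ^ r))
    have := congrFun (congrFun (congrArg cmat hg) 0) 0
    rw [← pow_add, ← hr]
    simpa [htp, cmat_neg_one] using this

theorem exists_nonsplit (k : ℕ) : ∃ x : Ext K k, (Fintype.card K + 1) / 2 ∣ orderOf x := by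
  obtain ⟨g, -, hc, hcard⟩ := CfsgLib.SL2.exists_regular_nonsplit (F := K)
  obtain ⟨c, hc⟩ := hc.exists_generator
  have hord : orderOf (c : SL(2, K)) = Fintype.card K + 1 := by
    rw [Subgroup.orderOf_coe, orderOf_eq_card_of_forall_mem_zpowers hc, hcard, Nat.card_eq_fintype_card]
  obtain ⟨b, hb⟩ := exists_pow_lin ((c : SL(2, K)), (1 : ℤˣ))
  refine ⟨SemidirectProduct.inr b, ?_⟩
  have hn := pow_of_inr (pow_orderOf_eq_one (SemidirectProduct.inr b : Ext K k))
  set n := orderOf (SemidirectProduct.inr b : Ext K k)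
  rw [hb] at hn
  obtain ⟨-, hg⟩ := rep_eq_one hn
  have h2 : (c : SL(2, K)) ^ (n + n) = 1 := by
    rw [pow_add]
    rcases hg with hg | hg <;> rw [hg] <;> simp
  have hd := orderOf_dvd_of_pow_eq_one h2
  rw [hord] at hd
  have h2c : 2 ∣ Fintype.card K + 1 := by
    have := FiniteField.odd_card_of_char_ne_two (F := K) (by rw [ringChar.eq K 3]; norm_num)
    omega
  obtain ⟨r, hr⟩ := h2c
  rw [hr, ← two_mul] at hd
  rw [hr, Nat.mul_div_cancel_left r two_pos]
  exact Nat.dvd_of_mul_dvd_mul_left two_pos hd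

end CfsgLib.ReeCube
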